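import Mathlib

/-! Arithmetic for the largest element order of `PGU_d(q)`. -/

set_option autoImplicit false

namespace CfsgLib.KnownA.PGUMaxOrd

/-- `L` annihilates a `φ`-stable set of `S` roots, apart from a common scalar. -/
structure Bound (q S L : ℕ) : Prop where
  gen : L ≤ q ^ (S - 1) + 1
  odd : Odd S → 2 ≤ S → L + 1 ≤ q ^ (S - 1)
  one : S = 1 → L ≤ 1

theorem self_lt_pow_pred {p a : ℕ} (hp : 3 ≤ p) (ha : 2 ≤ a) : a < p ^ (a - 1) := by
  obtain ⟨b, rfl⟩ : ∃ b, a = b + 2 := ⟨a - 2, by omega⟩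
  show b + 2 < p ^ (b + 1)
  have h1 : b + 1 ≤ p ^ b := Nat.lt_pow_self (by omega)
  have h2 : p ^ b * 3 ≤ p ^ b * p := Nat.mul_le_mul_left _ hp
  rw [pow_succ]
  omega

theorem two_of_pow_pred_le {p a : ℕ} (hp : 2 ≤ p) (ha : 2 ≤ a) (h : p ^ (a - 1) ≤ a) : p = 2 ∧ a = 2 := by
  rcases Nat.lt_or_ge p 3 with h3 | h3
  · obtain rfl : p = 2 := by omega
    refine ⟨rfl, ?_⟩
    by_contra hne
    obtain ⟨b, rfl⟩ : ∃ b, a = b + 3 := ⟨a - 3, by omega⟩
    have h1 : b + 1 ≤ 2 ^ b := Nat.lt_pow_self one_lt_two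
    rw [show b + 3 - 1 = b + 2 by omega, pow_add] at h
    omega
  · have := self_lt_pow_pred h3 ha
    omega

theorem pow_step {q m : ℕ} (hm : 1 ≤ m) : q ^ m = q ^ (m - 1) * q := by
  conv_lhs => rw [show m = m - 1 + 1 by omega, pow_succ]

variable {p f d q S E L : ℕ}

/-- The four cases of the bound. -/
theorem bound_cases (hp : p.Prime) (hf : 1 ≤ f) (hq : q = p ^ f) (hd : 3 ≤ d) (h32 : ¬ (d = 3 ∧ q = 2))
    (hSE : S + E ≤ d + 1) (hS : 1 ≤ S) (hE1 : 1 ≤ E) (hL : Bound q S L) :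
    (Odd d → 2 ≤ f → p ^ Nat.clog p E * L ≤ q ^ (d - 1) - 1) ∧
    (Odd d → f = 1 → p ^ Nat.clog p E * L ≤ (p ^ (d - 2) + 1) * p) ∧
    (Even d → 2 < q → p ^ Nat.clog p E * L ≤ q ^ (d - 1) + 1) ∧
    (Even d → q = 2 → p ^ Nat.clog p E * L ≤ 4 * (2 ^ (d - 3) + 1)) := by
  have hp2 := hp.two_le
  have hpq : p ≤ q := hq ▸ Nat.le_self_pow (by omega) p
  have hq2 : 2 ≤ q := hp2.trans hpq
  have e1 : q ^ (d - 1) = q ^ (d - 2) * q := pow_step (by omega)
  have e2 : q ^ (d - 2) = q ^ (d - 3) * q := pow_step (by omega)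
  have m2 : q ^ (d - 2) * 2 ≤ q ^ (d - 1) := e1 ▸ Nat.mul_le_mul_left _ hq2
  have one3 : 1 ≤ q ^ (d - 3) := Nat.one_le_pow _ _ (by omega)
  have two2 : q ≤ q ^ (d - 2) := Nat.le_self_pow (by omega) q
  have hmono : ∀ i j, i ≤ j → q ^ i ≤ q ^ j := fun i j h => Nat.pow_le_pow_right (by omega) h
  have hgen : ∀ j, S - 1 ≤ j → L ≤ q ^ j + 1 := fun j h =>
    hL.gen.trans (Nat.add_le_add_right (hmono _ _ h) 1)
  have hfe : f = 1 → (p ^ (d - 2) + 1) * p = q ^ (d - 1) + p := fun h => by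
    subst hq; subst h
    rw [pow_one, add_mul, one_mul, ← pow_succ, show d - 2 + 1 = d - 1 by omega]
  have hbig : 2 ≤ f → 2 * p ≤ q ∧ 4 ≤ q := fun h => by
    have : p * p ≤ q := by rw [hq, ← pow_two]; exact Nat.pow_le_pow_right hp.pos h
    have h1 : 2 * p ≤ p * p := Nat.mul_le_mul_right _ hp2
    omega
  have htwo : q = 2 → 4 * (2 ^ (d - 3) + 1) = q ^ (d - 1) + 4 := fun h => by
    subst h
    rw [show d - 1 = d - 3 + 2 by omega, pow_add]; ring
  have hq2p : q = 2 → p = 2 := fun h => by omega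
  rcases Nat.lt_or_ge 1 E with hE | hE
  swap
  · rw [Nat.clog_of_right_le_one hE, pow_zero, one_mul]
    have g1 := hgen (d - 1) (by omega)
    have hodd : Odd d → L + 1 ≤ q ^ (d - 1) := fun ho => by
      rcases Nat.lt_or_ge S d with h | h
      · have := hgen (d - 2) (by omega); omega
      · obtain rfl : S = d := by omega
        exact hL.odd ho (by omega)
    refine ⟨fun ho hf2 => ?_, fun ho hf1 => ?_, fun he hq3 => g1, fun he h2 => ?_⟩
    · have := hodd ho; omega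
    · have := hodd ho; rw [hfe hf1]; omega
    · rw [htwo h2]; omega
  have hlt := Nat.pow_pred_clog_lt_self (b := p) hp.one_lt hE
  have hle := Nat.le_pow_clog hp.one_lt E
  rw [Nat.pred_eq_sub_one] at hlt
  generalize Nat.clog p E = a at *
  rcases Nat.lt_or_ge a 2 with ha | ha
  · have ha1 : a = 1 := by
      rcases Nat.eq_zero_or_pos a with rfl | h
      · simp at hle; omega
      · omega
    subst ha1
    rw [pow_one]
    have g2 := hgen (d - 2) (by omega)
    have hmul : p * L ≤ p * q ^ (d - 2) + p := (Nat.mul_le_mul_left p g2).trans (by rw [mul_add, mul_one])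
    have hpm : p * q ^ (d - 2) ≤ q ^ (d - 1) := by
      rw [e1, mul_comm (q ^ (d - 2))]; exact Nat.mul_le_mul_right _ hpq
    refine ⟨fun ho hf2 => ?_, fun ho hf1 => ?_, fun he hq3 => ?_, fun he h2 => ?_⟩
    · obtain ⟨h2p, h4⟩ := hbig hf2
      have : 2 * p * q ^ (d - 2) ≤ q ^ (d - 1) := by
        rw [e1, mul_comm (q ^ (d - 2))]; exact Nat.mul_le_mul_right _ h2p
      rw [mul_assoc] at this
      have : p * 2 ≤ p * q ^ (d - 2) := Nat.mul_le_mul_left _ (by omega)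
      have : 4 * 1 ≤ q ^ (d - 1) := by omega
      omega
    · rw [hfe hf1]; omega
    · rcases Nat.lt_or_ge S (d - 1) with h | h
      · have g3 := hgen (d - 3) (by omega)
        have h1 : p * L ≤ q * q ^ (d - 3) + q :=
          (Nat.mul_le_mul hpq g3).trans (by rw [mul_add, mul_one])
        rw [mul_comm q, ← e2] at h1
        omega
      · obtain ⟨k, hk⟩ := he
        have h1 := hL.odd ⟨k - 1, by omega⟩ (by omega)
        rw [show S - 1 = d - 2 by omega] at h1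
        have : p * (L + 1) ≤ p * q ^ (d - 2) := Nat.mul_le_mul_left _ h1
        rw [mul_add] at this
        omega
    · have := hq2p h2; rw [htwo h2]; omega
  rcases Nat.lt_or_ge a (E - 1) with h | h
  · have g := hgen (d - E) (by omega)
    have h1 : p ^ a ≤ q ^ (E - 2) :=
      (Nat.pow_le_pow_right hp.pos (by omega : a ≤ E - 2)).trans (Nat.pow_le_pow_left hpq _)
    have hEd : E ≤ d := by omega
    have h2 : p ^ a * L ≤ q ^ (d - 2) + q ^ (d - 2) := by
      refine (Nat.mul_le_mul h1 g).trans ?_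
      rw [mul_add, mul_one, ← pow_add, show E - 2 + (d - E) = d - 2 by omega]
      exact Nat.add_le_add_left (hmono _ _ (by omega)) _
    refine ⟨fun ho hf2 => ?_, fun ho hf1 => ?_, fun he hq3 => ?_, fun he h2' => ?_⟩
    · obtain ⟨-, h4⟩ := hbig hf2
      have : q ^ (d - 2) * 4 ≤ q ^ (d - 1) := e1 ▸ Nat.mul_le_mul_left _ h4
      omega
    · rw [hfe hf1]; omega
    · omega
    · rw [htwo h2']; omega
  obtain ⟨rfl, rfl⟩ := two_of_pow_pred_le hp2 ha (by omega)
  have hE3 : E = 3 := by norm_num at hlt; omega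
  subst hE3
  have g3 := hgen (d - 3) (by omega)
  have h4 : 2 ^ 2 * L ≤ 4 * q ^ (d - 3) + 4 := by omega
  have hq4 : 4 ≤ q → 2 ^ 2 * L + 1 ≤ q ^ (d - 1) := fun hq4 => by
    have : q ^ (d - 3) * 4 ≤ q ^ (d - 2) := e2 ▸ Nat.mul_le_mul_left _ hq4
    have : q ^ (d - 2) * 4 ≤ q ^ (d - 1) := e1 ▸ Nat.mul_le_mul_left _ hq4
    omega
  have hq24 : q = 2 ∨ 4 ≤ q := by
    rcases Nat.lt_or_ge f 2 with h | h
    · left; rw [hq, show f = 1 by omega, pow_one]
    · exact Or.inr (hbig h).2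
  refine ⟨fun ho hf2 => ?_, fun ho hf1 => ?_, fun he hq3 => ?_, fun he h2 => ?_⟩
  · have := hq4 (hbig hf2).2; omega
  · rw [hfe hf1]
    have hq' : q = 2 := by subst hf1; simpa using hq
    subst hq'
    obtain ⟨k, hk⟩ := ho
    have hk2 : 2 ≤ k := by omega
    rcases Nat.lt_or_ge S (d - 2) with h | h
    · have g4 := hgen (d - 4) (by omega)
      have e3 : 2 ^ (d - 3) = 2 ^ (d - 4) * 2 := by
        rw [pow_step (q := 2) (m := d - 3) (by omega), show d - 3 - 1 = d - 4 by omega]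
      omega
    · have h1 := hL.odd ⟨k - 1, by omega⟩ (by omega)
      rw [show S - 1 = d - 3 by omega] at h1
      omega
  · rcases hq24 with h' | h'
    · omega
    · have := hq4 h'; omega
  · rw [htwo h2]; subst h2; omega

theorem mul_pow_add_one_le {q a b : ℕ} (hq : 1 ≤ q) (ha : 1 ≤ a) (hb : 1 ≤ b) :
    (q ^ a + 1) * (q ^ b + 1) ≤ (q + 1) * (q ^ (a + b - 1) + 1) := by
  obtain ⟨a, rfl⟩ : ∃ i, a = i + 1 := ⟨a - 1, by omega⟩
  obtain ⟨b, rfl⟩ : ∃ i, b = i + 1 := ⟨b - 1, by omega⟩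
  rw [show a + 1 + (b + 1) - 1 = a + b + 1 by omega]
  have hA : 1 ≤ q ^ a := Nat.one_le_pow _ _ hq
  have hB : 1 ≤ q ^ b := Nat.one_le_pow _ _ hq
  have hAB : q ^ a + q ^ b ≤ q ^ a * q ^ b + 1 := by nlinarith
  have := Nat.mul_le_mul_left q hAB
  simp only [pow_succ, pow_add] at this ⊢
  nlinarith

/-- The order of the roots in one orbit of size `m`. -/
structure OrbitOrd (q m N : ℕ) : Prop where
  le : N ≤ q ^ m + 1
  even : Even m → N + 1 = q ^ m
  dvd : q + 1 ∣ N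
  pos : 0 < N

theorem exists_orbitOrd {q m : ℕ} (hq : 2 ≤ q) (hm : 1 ≤ m) :
    ∃ N, OrbitOrd q m N ∧ (Odd m → N = q ^ m + 1) ∧ (Even m → N = q ^ m - 1) := by
  rcases Nat.even_or_odd m with he | ho
  · have h1 : 1 < q ^ m := Nat.one_lt_pow (by omega) (by omega)
    refine ⟨q ^ m - 1, ⟨by omega, fun _ => by omega, ?_, by omega⟩, fun h => absurd he (Nat.not_even_iff_odd.2 h),
      fun _ => rfl⟩
    obtain ⟨k, rfl⟩ := he
    refine (Dvd.intro (q - 1) ?_ : q + 1 ∣ q ^ 2 - 1).trans ?_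
    · rw [← Nat.sq_sub_sq, one_pow]
    · have := Nat.sub_dvd_pow_sub_pow (q ^ 2) 1 k
      rwa [one_pow, ← pow_mul, two_mul] at this
  · refine ⟨q ^ m + 1, ⟨le_rfl, fun h => absurd h (Nat.not_even_iff_odd.2 ho), ?_, by omega⟩, fun _ => rfl,
      fun h => absurd h (Nat.not_even_iff_odd.2 ho)⟩
    simpa using ho.nat_add_dvd_pow_add_pow q 1

/-- A single orbit. -/
theorem single_bound {q m N L : ℕ} (hq : 2 ≤ q) (hm : 1 ≤ m) (h : OrbitOrd q m N) (hL : (q + 1) * L = N) :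
    Bound q m L := by
  have hN := h.le
  obtain ⟨k, rfl⟩ : ∃ k, m = k + 1 := ⟨m - 1, by omega⟩
  refine ⟨?_, fun ho h2 => ?_, fun h1 => ?_⟩
  · refine Nat.le_of_mul_le_mul_left (hL.le.trans (hN.trans ?_)) (Nat.succ_pos q)
    rw [show k + 1 - 1 = k by omega, pow_succ]
    nlinarith [Nat.zero_le (q ^ k)]
  · rw [show k + 1 - 1 = k by omega]
    have hk : 2 ≤ k := by obtain ⟨j, hj⟩ := ho; omega
    have hkq : q * q ≤ q ^ k := by rw [← pow_two]; exact Nat.pow_le_pow_right (by omega) hk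
    refine Nat.le_of_mul_le_mul_left ?_ (Nat.succ_pos q)
    rw [Nat.succ_eq_add_one, mul_add, hL, mul_one]
    rw [pow_succ] at hN
    nlinarith
  · have : q + 1 ≤ (q + 1) * 1 := by omega
    rw [show k + 1 = 1 from h1, pow_one] at hN
    exact Nat.le_of_mul_le_mul_left (hL.le.trans (hN.trans this)) (Nat.succ_pos q)

/-- Several orbits: the bound on a common multiple of the orders. -/
structure MultiBound (q S L : ℕ) : Prop where
  gen : L ≤ q ^ (S - 1) + 1
  odd : Odd S → L + 1 ≤ q ^ (S - 1)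
  two : 2 ≤ S

theorem MultiBound.bound {q S L : ℕ} (h : MultiBound q S L) : Bound q S L :=
  ⟨h.gen, fun ho _ => h.odd ho, fun h1 => by have := h.two; omega⟩

theorem lcm_mul_le {q L N : ℕ} (hLp : 0 < L) (hL : q + 1 ∣ L) (hN : q + 1 ∣ N) :
    Nat.lcm L N * (q + 1) ≤ L * N := by
  conv_rhs => rw [← Nat.gcd_mul_lcm L N, mul_comm]
  exact Nat.mul_le_mul_left _ (Nat.le_of_dvd (Nat.gcd_pos_of_pos_left _ hLp) (Nat.dvd_gcd hL hN))

theorem pair_bound {q a b A B : ℕ} (hq : 2 ≤ q) (ha : 1 ≤ a) (hb : 1 ≤ b) (hA : OrbitOrd q a A)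
    (hB : OrbitOrd q b B) : MultiBound q (a + b) (Nat.lcm A B) := by
  have hl := lcm_mul_le hA.pos hA.dvd hB.dvd
  refine ⟨?_, fun ho => ?_, by omega⟩
  · refine Nat.le_of_mul_le_mul_left ?_ (Nat.succ_pos q)
    rw [Nat.succ_eq_add_one, mul_comm (q + 1) (Nat.lcm A B)]
    exact hl.trans ((Nat.mul_le_mul hA.le hB.le).trans (mul_pow_add_one_le (by omega) ha hb))
  · have key : ∀ i j C D, 1 ≤ i → 1 ≤ j → OrbitOrd q i C → OrbitOrd q j D → Odd (i + j) → Even i →
        C * D + (q + 1) ≤ (q + 1) * q ^ (i + j - 1) := by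
      intro i j C D hi hj hC hD hij hie
      have hCe := hC.even hie
      have h1 : C * D ≤ C * (q ^ j + 1) := Nat.mul_le_mul_left _ hD.le
      obtain ⟨k, hk⟩ : ∃ k, i + j = k + 1 := ⟨i + j - 1, by omega⟩
      have h2 : C * (q ^ j + 1) + q ^ j + 1 = q ^ (i + j) + q ^ i := by
        rw [pow_add, ← hCe]; ring
      have h3 : q ^ i ≤ q ^ k := Nat.pow_le_pow_right (by omega) (by omega)
      have h4 : q ≤ q ^ j := Nat.le_self_pow (by omega) q
      rw [show i + j - 1 = k by omega]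
      rw [hk, pow_succ] at h2
      nlinarith
    refine Nat.le_of_mul_le_mul_left ?_ (Nat.succ_pos q)
    rw [Nat.succ_eq_add_one, mul_add, mul_one, mul_comm (q + 1) (Nat.lcm A B)]
    refine (Nat.add_le_add_right hl _).trans ?_
    rcases Nat.even_or_odd a with hae | hao
    · exact key a b A B ha hb hA hB ho hae
    · have hbe : Even b := by
        by_contra hbo
        exact Nat.not_even_iff_odd.2 ho (hao.add_odd (Nat.not_even_iff_odd.1 hbo))
      rw [mul_comm A B, add_comm a b]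
      exact key b a B A hb ha hB hA (add_comm a b ▸ ho) hbe

theorem multi_step {q S b A B : ℕ} (hq : 2 ≤ q) (hb : 1 ≤ b) (hA : MultiBound q S A) (hA0 : 0 < A)
    (hA1 : q + 1 ∣ A) (hB : OrbitOrd q b B) : MultiBound q (S + b) (Nat.lcm A B) := by
  have hS := hA.two
  have hl := lcm_mul_le hA0 hA1 hB.dvd
  have h1 : Nat.lcm A B ≤ q ^ (S + b - 2) + 1 := by
    refine Nat.le_of_mul_le_mul_left ?_ (Nat.succ_pos q)
    rw [Nat.succ_eq_add_one, mul_comm (q + 1) (Nat.lcm A B)]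
    refine hl.trans ((Nat.mul_le_mul hA.gen hB.le).trans ?_)
    rw [show S + b - 2 = S - 1 + b - 1 by omega]
    exact mul_pow_add_one_le (by omega) (by omega) hb
  have e : q ^ (S + b - 1) = q ^ (S + b - 2) * q := by
    rw [pow_step (q := q) (m := S + b - 1) (by omega), show S + b - 1 - 1 = S + b - 2 by omega]
  have h2 : q ^ (S + b - 2) * 2 ≤ q ^ (S + b - 1) := e ▸ Nat.mul_le_mul_left _ hq
  have h3 : q ≤ q ^ (S + b - 2) := Nat.le_self_pow (by omega) q
  exact ⟨by omega, fun _ => by omega, by omega⟩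

end CfsgLib.KnownA.PGUMaxOrd
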