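import Cfsg.Agent.Lib.Classical.PSUSpectrum.Models

/-! Elements of large order in `PGU_d(q)`: a torus element times a regular unipotent one. -/

set_option autoImplicit false
set_option linter.unusedSectionVars false
set_option linter.style.haveILetI false

namespace CfsgLib.KnownA.PGUMaxOrd

open Module CfsgLib.Classical CfsgLib.Classical.PSUSpectrum

universe u₀

variable {F : Type u₀} [Field F] [Fintype F] {q : ℕ} {σ : F →+* F} (p : ℕ) [Fact p.Prime] [CharP F p]

theorem orderOf_isom_lmul {V : Type*} [AddCommGroup V] [Module F V] {B : V →ₛₗ[σ] V →ₗ[F] F}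
    {G : Type*} [Monoid G] (g : isomGroup B) (w : G) (h : ∀ i : ℕ, g ^ i = 1 ↔ w ^ i = 1) :
    orderOf g = orderOf w :=
  Nat.dvd_antisymm (orderOf_dvd_of_pow_eq_one ((h _).2 (pow_orderOf_eq_one w)))
    (orderOf_dvd_of_pow_eq_one ((h _).1 (pow_orderOf_eq_one g)))

include p in
/-- A torus element of order `q^k+1`. -/
theorem exists_torus_odd {f k : ℕ} (hq : q = p ^ f) (hF : Fintype.card F = q ^ 2) (hσ : ∀ x, σ x = x ^ q)
    (hc : IsConjugation σ) (hk : Odd k) :
    ∃ (V : Type) (_ : AddCommGroup V) (_ : Module F V) (_ : FiniteDimensional F V)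
      (B : V →ₛₗ[σ] V →ₗ[F] F) (g : isomGroup B), IsHermitian B ∧ B.SeparatingRight ∧ finrank F V = k ∧
        orderOf g = q ^ k + 1 := by
  classical
  have hpp : p.Prime := Fact.out
  obtain ⟨j, hj⟩ := hk
  haveI : NeZero k := ⟨by omega⟩
  set K := FiniteField.Extension F p k
  haveI : Fintype K := Fintype.ofFinite K
  have hK : finrank F K = k := FiniteField.finrank_extension F p k
  haveI : FiniteDimensional F K := Module.finite_of_finrank_pos (by omega)
  haveI : CharP K p := charP_of_injective_algebraMap (algebraMap F K).injective p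
  haveI : ExpChar K p := ExpChar.prime hpp
  have hu : (q : ZMod (q ^ k + 1)) ^ k = -1 := by
    have h : (((q ^ k + 1 : ℕ)) : ZMod (q ^ k + 1)) = 0 := ZMod.natCast_self _
    push_cast at h
    linear_combination h
  obtain ⟨α, hα⟩ := exists_order (F := F) p k (q ^ k + 1) (by
    rw [hF]; push_cast; rw [← pow_mul, mul_comm, pow_mul, hu, neg_one_sq])
  let τ : K →+* K := iterateFrobenius K p (f * k)
  have hτ : ∀ x, τ x = x ^ q ^ k := fun x => by rw [hq, ← pow_mul]; exact iterateFrobenius_def p _ x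
  have hτc : ∀ c, τ (algebraMap F K c) = algebraMap F K (σ c) := fun c => by
    rw [hτ, hσ, ← map_pow]
    congr 1
    rw [hj, pow_succ, pow_mul q 2 j, ← hF, pow_mul, FiniteField.pow_card_pow]
  have hττ : ∀ x, τ (τ x) = x := fun x => by
    have hcK : Fintype.card K = Fintype.card F ^ k := by rw [Module.card_eq_pow_finrank (K := F), hK]
    rw [hτ, hτ, ← pow_mul, ← pow_add, ← two_mul, pow_mul, ← hF, ← hcK, FiniteField.pow_card]
  have hατ : τ α * α = 1 := by rw [hτ, ← pow_succ, ← hα, pow_orderOf_eq_one]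
  have hα0 : α ≠ 0 := fun e => by rw [e, mul_zero] at hατ; exact zero_ne_one hατ
  let B : K →ₛₗ[σ] K →ₗ[F] F := LinearMap.mk₂'ₛₗ σ (RingHom.id F) (fun x y => Algebra.trace F K (τ x * y))
    (fun x x' y => by rw [map_add, add_mul, map_add])
    (fun c x y => by rw [Algebra.smul_def c x, map_mul τ, hτc, mul_assoc, ← Algebra.smul_def, map_smul])
    (fun x y y' => by rw [mul_add, map_add])
    (fun c x y => by rw [mul_smul_comm, map_smul, RingHom.id_apply])
  have hb : ∀ x y, B x y = Algebra.trace F K (τ x * y) := fun x y => rfl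
  have hB : IsHermitian B := ⟨hc, fun x y => by
    rw [hb, hb, ← trace_comm τ hτc, map_mul, hττ, mul_comm]⟩
  have hN : B.SeparatingRight := fun y hy => (traceForm_nondegenerate F K).1 _ fun z => by
    have h := hy (τ z)
    rwa [hb, hττ, mul_comm, ← Algebra.traceForm_apply] at h
  let g : isomGroup B := ⟨LinearEquiv.ofInjectiveEndo (LinearMap.mulLeft F α) (mul_right_injective₀ hα0),
    fun x y => by
      show B (α * x) (α * y) = B x y
      rw [hb, hb, map_mul τ, show τ α * τ x * (α * y) = (τ α * α) * (τ x * y) by ring, hατ, one_mul]⟩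
  have hpow : ∀ (i : ℕ) (x : K), (g ^ i).1 x = α ^ i * x := by
    intro i x
    induction i with
    | zero => simp
    | succ i ih =>
      rw [pow_succ', pow_succ', mul_assoc, ← ih]
      rfl
  refine ⟨K, inferInstance, inferInstance, inferInstance, B, g, hB, hN, hK, ?_⟩
  rw [← hα]
  refine orderOf_isom_lmul g α fun i => ⟨fun h => ?_, fun h => ?_⟩
  · have := hpow i 1
    rw [h, mul_one] at this
    exact this.symm
  · exact Subtype.ext (LinearEquiv.ext fun x => by rw [hpow, h, one_mul]; rfl)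

include p in
/-- A torus element of order `q^(2m)-1`. -/
theorem exists_torus_pair {f m : ℕ} (hq : q = p ^ f) (hF : Fintype.card F = q ^ 2) (hσ : ∀ x, σ x = x ^ q)
    (hc : IsConjugation σ) (hm : 1 ≤ m) :
    ∃ (V : Type) (_ : AddCommGroup V) (_ : Module F V) (_ : FiniteDimensional F V)
      (B : V →ₛₗ[σ] V →ₗ[F] F) (g : isomGroup B), IsHermitian B ∧ B.SeparatingRight ∧ finrank F V = 2 * m ∧
        orderOf g = q ^ (2 * m) - 1 := by
  classical
  have hpp : p.Prime := Fact.out
  have hq2 := two_le_of_card_sq hF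
  haveI : NeZero m := ⟨by omega⟩
  set K := FiniteField.Extension F p m
  haveI : Fintype K := Fintype.ofFinite K
  have hK : finrank F K = m := FiniteField.finrank_extension F p m
  haveI : FiniteDimensional F K := Module.finite_of_finrank_pos (by omega)
  haveI : CharP K p := charP_of_injective_algebraMap (algebraMap F K).injective p
  haveI : ExpChar K p := ExpChar.prime hpp
  obtain ⟨α, hα⟩ := exists_order (F := F) p m (q ^ (2 * m) - 1) (by
    have h : (((q ^ (2 * m) - 1 : ℕ)) : ZMod (q ^ (2 * m) - 1)) = 0 := ZMod.natCast_self _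
    rw [Nat.cast_sub (Nat.one_le_pow _ _ (by omega)), sub_eq_zero] at h
    rw [hF]
    push_cast at h ⊢
    rw [← pow_mul]; exact h)
  let φ : K →+* K := iterateFrobenius K p f
  have hφ : ∀ x, φ x = x ^ q := fun x => by rw [hq]; exact iterateFrobenius_def p f x
  have hφc : ∀ c, φ (algebraMap F K c) = algebraMap F K (σ c) := fun c => by rw [hφ, hσ, map_pow]
  have hφs : ∀ (c : F) (x : K), φ (c • x) = σ c • φ x := fun c x => by
    rw [Algebra.smul_def, map_mul, hφc, ← Algebra.smul_def]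
  let B : (K × K) →ₛₗ[σ] (K × K) →ₗ[F] F := LinearMap.mk₂'ₛₗ σ (RingHom.id F)
    (fun x y => Algebra.trace F K (φ x.1 * y.2) + σ (Algebra.trace F K (φ y.1 * x.2)))
    (fun x x' y => by simp only [Prod.fst_add, Prod.snd_add, map_add, add_mul, mul_add]; ring)
    (fun c x y => by
      simp only [Prod.smul_fst, Prod.smul_snd, hφs, smul_mul_assoc, mul_smul_comm, map_smul, smul_eq_mul, map_mul]
      ring)
    (fun x y y' => by simp only [Prod.fst_add, Prod.snd_add, map_add, add_mul, mul_add]; ring)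
    (fun c x y => by
      simp only [Prod.smul_fst, Prod.smul_snd, hφs, smul_mul_assoc, mul_smul_comm, map_smul, smul_eq_mul, map_mul,
        hc.invol, RingHom.id_apply]
      ring)
  have hb : ∀ x y, B x y = Algebra.trace F K (φ x.1 * y.2) + σ (Algebra.trace F K (φ y.1 * x.2)) :=
    fun x y => rfl
  have hB : IsHermitian B := ⟨hc, fun x y => by rw [hb, hb, map_add, hc.invol]; ring⟩
  have hN : B.SeparatingRight := fun y hy => by
    refine Prod.ext ?_ ?_
    · refine (map_eq_zero φ).1 ((traceForm_nondegenerate F K).1 _ fun z => ?_)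
      have h := hy (0, z)
      rw [hb] at h
      simp only [map_zero, zero_mul, zero_add] at h
      rw [Algebra.traceForm_apply]
      exact (map_eq_zero σ).1 h
    · refine (traceForm_nondegenerate F K).1 _ fun z => ?_
      obtain ⟨z, rfl⟩ := (Finite.injective_iff_surjective.1 φ.injective) z
      have h := hy (z, 0)
      rw [hb] at h
      simp only [mul_zero, map_zero, add_zero] at h
      rwa [Algebra.traceForm_apply, mul_comm]
  have hM0 : 0 < q ^ (2 * m) - 1 := by
    have := Nat.one_lt_pow (show 2 * m ≠ 0 by omega) hq2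
    omega
  have hα0 : α ≠ 0 := fun e => by
    have h1 : α ^ (q ^ (2 * m) - 1) = 1 := hα ▸ pow_orderOf_eq_one α
    rw [e, zero_pow hM0.ne'] at h1
    exact zero_ne_one h1
  let Z : (K × K) ≃ₗ[F] (K × K) := LinearEquiv.prodCongr
    (LinearEquiv.ofInjectiveEndo (LinearMap.mulLeft F α) (mul_right_injective₀ hα0))
    (LinearEquiv.ofInjectiveEndo (LinearMap.mulLeft F (φ α)⁻¹)
      (mul_right_injective₀ (inv_ne_zero ((map_ne_zero φ).2 hα0))))
  let g : isomGroup B := ⟨Z, fun x y => by
    show B (α * x.1, (φ α)⁻¹ * x.2) (α * y.1, (φ α)⁻¹ * y.2) = B x y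
    rw [hb, hb]
    have key : ∀ a b : K, φ (α * a) * ((φ α)⁻¹ * b) = φ a * b := fun a b => by
      calc φ (α * a) * ((φ α)⁻¹ * b) = (φ α * (φ α)⁻¹) * (φ a * b) := by rw [map_mul]; ring
        _ = _ := by rw [mul_inv_cancel₀ ((map_ne_zero φ).2 hα0), one_mul]
    show Algebra.trace F K (φ (α * x.1) * ((φ α)⁻¹ * y.2)) +
      σ (Algebra.trace F K (φ (α * y.1) * ((φ α)⁻¹ * x.2))) = _
    rw [key, key]⟩
  have hpow : ∀ (i : ℕ) (x : K × K), (g ^ i).1 x = (α ^ i * x.1, ((φ α)⁻¹) ^ i * x.2) := by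
    intro i x
    induction i with
    | zero => simp
    | succ i ih =>
      rw [pow_succ']
      show g.1 ((g ^ i).1 x) = _
      rw [ih]
      show (α * (α ^ i * x.1), (φ α)⁻¹ * ((φ α)⁻¹ ^ i * x.2)) = _
      rw [← mul_assoc, ← mul_assoc, ← pow_succ', ← pow_succ']
  refine ⟨K × K, inferInstance, inferInstance, inferInstance, B, g, hB, hN,
    by rw [Module.finrank_prod, hK]; omega, ?_⟩
  rw [← hα]
  refine orderOf_isom_lmul g α fun i => ⟨fun h => ?_, fun h => ?_⟩
  · have := congrArg Prod.fst (hpow i (1, 0))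
    rw [h] at this
    simpa using this.symm
  · refine Subtype.ext (LinearEquiv.ext fun x => ?_)
    rw [hpow, inv_pow, ← map_pow, h, map_one, inv_one, one_mul, one_mul]
    rfl

include p in
/-- A torus element beside a regular unipotent element gives the lcm of their orders. -/
theorem exists_pgu_element {d n e : ℕ} (hF : Fintype.card F = q ^ 2) (hd : 2 ≤ d)
    (hσ : ∀ x, σ x = x ^ q) (hc : IsConjugation σ) {V : Type*} [AddCommGroup V] [Module F V]
    [FiniteDimensional F V] {B₁ : V →ₛₗ[σ] V →ₗ[F] F} {g₁ : isomGroup B₁} (hB₁ : IsHermitian B₁)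
    (hN₁ : B₁.SeparatingRight) (hV : finrank F V + e = d) (he : 1 ≤ e) (hn : orderOf g₁ = n) :
    ∃ y : ↥(Cfsg.GU d F q) ⧸ Subgroup.center ↥(Cfsg.GU d F q),
      n ∣ orderOf y ∧ p ^ Nat.clog p e ∣ orderOf y := by
  classical
  obtain ⟨R, _, _, _, B₂, g₂, hB₂, hN₂, hR, hord, -⟩ := exists_unipotent p hc he
  haveI : Nontrivial R := Module.nontrivial_of_finrank_pos (R := F) (by omega)
  let B : (V × R) →ₛₗ[σ] (V × R) →ₗ[F] F := LinearMap.mk₂'ₛₗ σ (RingHom.id F)
    (fun u v => B₁ u.1 v.1 + B₂ u.2 v.2)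
    (fun u u' v => by simp only [Prod.fst_add, Prod.snd_add, map_add, LinearMap.add_apply]; ring)
    (fun c u v => by
      simp only [Prod.smul_fst, Prod.smul_snd, map_smulₛₗ, LinearMap.smul_apply, smul_eq_mul]; ring)
    (fun u v v' => by simp only [Prod.fst_add, Prod.snd_add, map_add]; ring)
    (fun c u v => by simp only [Prod.smul_fst, Prod.smul_snd, map_smul, smul_eq_mul, RingHom.id_apply]; ring)
  have hb : ∀ u v, B u v = B₁ u.1 v.1 + B₂ u.2 v.2 := fun u v => rfl
  have hB : IsHermitian B := ⟨hc, fun u v => by rw [hb, hb, map_add, hB₁.symm, hB₂.symm]⟩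
  have hN : B.SeparatingRight := fun v hv => Prod.ext
    (hN₁ _ fun w => by simpa [hb] using hv (w, 0)) (hN₂ _ fun w => by simpa [hb] using hv (0, w))
  let g : isomGroup B := ⟨g₁.1.prodCongr g₂.1, fun u v => by
    show B (g₁.1 u.1, g₂.1 u.2) (g₁.1 v.1, g₂.1 v.2) = B u v
    rw [hb, hb, g₁.2, g₂.2]⟩
  have hpow : ∀ (i : ℕ) u, (g ^ i).1 u = ((g₁ ^ i).1 u.1, (g₂ ^ i).1 u.2) := by
    intro i u
    induction i with
    | zero => simp
    | succ i ih =>
      rw [pow_succ', pow_succ', pow_succ']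
      show g.1 ((g ^ i).1 u) = _
      rw [ih]; rfl
  obtain ⟨ψ, hψ⟩ := hB.exists_isometry (stdHerm_isHermitian hc d) hN (stdHerm_sepRight d)
    (by rw [Module.finrank_prod, hR, Module.finrank_fin_fun]; omega)
  obtain ⟨a, ha⟩ := (guEquiv (n := d) hσ).surjective (isomGroupCongr ψ hψ g)
  refine ⟨QuotientGroup.mk a, ?_⟩
  set i := orderOf (QuotientGroup.mk a : ↥(Cfsg.GU d F q) ⧸ Subgroup.center ↥(Cfsg.GU d F q)) with hi
  have hcen : a ^ i ∈ Subgroup.center ↥(Cfsg.GU d F q) := by
    rw [← QuotientGroup.eq_one_iff, QuotientGroup.mk_pow]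
    exact pow_orderOf_eq_one _
  obtain ⟨t, ht⟩ := scalar_of_commute hF hd (((a ^ i : ↥(Cfsg.GU d F q)) : GL (Fin d) F) : Matrix (Fin d) (Fin d) F)
    fun h hh _ => congrArg (fun b : ↥(Cfsg.GU d F q) => ((b : GL (Fin d) F) : Matrix (Fin d) (Fin d) F))
      (Subgroup.mem_center_iff.1 hcen ⟨h, hh⟩).symm
  have hgt : ∀ u, (g ^ i).1 u = t • u := fun u => ψ.injective (by
    have e1 : guEquiv hσ (a ^ i) = isomGroupCongr ψ hψ (g ^ i) := by rw [map_pow, map_pow, ha]
    have h2 : (guEquiv hσ (a ^ i)).1 (ψ u) = t • ψ u := by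
      show Matrix.mulVec (((a ^ i : ↥(Cfsg.GU d F q)) : GL (Fin d) F) : Matrix (Fin d) (Fin d) F) (ψ u) = _
      rw [ht, Matrix.smul_mulVec, Matrix.one_mulVec]
    rw [e1] at h2
    rw [map_smul, ← h2]
    show ψ ((g ^ i).1 u) = ψ ((g ^ i).1 (ψ.symm (ψ u)))
    rw [ψ.symm_apply_apply])
  have hg2 : ∀ z, (g₂ ^ i).1 z = t • z := fun z => by
    have h := hgt (0, z)
    rw [hpow] at h
    exact congrArg Prod.snd h
  obtain ⟨P, hP⟩ : ∃ P, p ^ Nat.clog p e = P := ⟨_, rfl⟩
  have ht1 : t = 1 := by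
    obtain ⟨z, hz⟩ := exists_ne (0 : R)
    have hit : ∀ j : ℕ, ((g₂ ^ i) ^ j).1 z = t ^ j • z := by
      intro j
      induction j with
      | zero => simp
      | succ j ih =>
        rw [pow_succ', pow_succ']
        show (g₂ ^ i).1 (((g₂ ^ i) ^ j).1 z) = _
        rw [ih, hg2, smul_smul]
    have h1 := hit P
    rw [← pow_mul, mul_comm, pow_mul, ← hP, ← hord, pow_orderOf_eq_one, one_pow, hord] at h1
    have h2 : t ^ p ^ Nat.clog p e = 1 := smul_left_injective F hz (by
      simp only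
      rw [one_smul]
      exact h1.symm)
    have h3 : (t - 1) ^ p ^ Nat.clog p e = 0 := by rw [sub_pow_char_pow, h2, one_pow, sub_self]
    exact sub_eq_zero.1 (pow_eq_zero_iff'.1 h3).1
  constructor
  · rw [← hn]
    refine orderOf_dvd_of_pow_eq_one (Subtype.ext (LinearEquiv.ext fun x => ?_))
    have h := hgt (x, 0)
    rw [hpow, ht1, one_smul] at h
    exact congrArg Prod.fst h
  · rw [← hord]
    refine orderOf_dvd_of_pow_eq_one (Subtype.ext (LinearEquiv.ext fun z => ?_))
    rw [hg2, ht1, one_smul]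
    rfl

end CfsgLib.KnownA.PGUMaxOrd
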