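import Mathlib
import Cfsg.Prelude.Def_LieClassical
import Cfsg.Agent.Lib.KnownA.PGUMaxOrd.Arith

/-! The upper bound: roots of the minimal polynomial of a unitary matrix under `x ↦ x^(-q)`. -/

set_option autoImplicit false
set_option linter.unusedSectionVars false
set_option linter.style.haveILetI false

namespace CfsgLib.KnownA.PGUMaxOrd

open Polynomial Function

section Orbits

variable {K : Type*} [Field K] [Finite K] (q : ℕ)

/-- `x ↦ x^(-q)`. -/
def phiInv (x : K) : K := (x ^ q)⁻¹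

theorem phiInv_iterate (j : ℕ) (x : K) :
    (phiInv q)^[j] x = if Even j then x ^ q ^ j else (x ^ q ^ j)⁻¹ := by
  induction j with
  | zero => simp
  | succ j ih =>
    rw [iterate_succ_apply', ih, phiInv]
    by_cases h : Even j
    · rw [if_pos h, if_neg (by simpa [Nat.even_add_one] using h), ← pow_mul, ← pow_succ]
    · rw [if_neg h, if_pos (by simpa [Nat.even_add_one] using h), inv_pow, inv_inv, ← pow_mul, ← pow_succ]

/-- One orbit: its size and the order of its elements. -/
theorem orbit_facts [DecidableEq K] (hq : 2 ≤ q) (hinj : Injective (fun x : K => x ^ q)) (x : K) (hx : x ≠ 0) :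
    ∃ O : Finset K, x ∈ O ∧ (∀ y ∈ O, phiInv q y ∈ O) ∧ (∀ y ∈ O, ∃ i, (phiInv q)^[i] x = y) ∧
      (∀ y, phiInv q y ∈ O → y ∈ O) ∧
      ∃ N, OrbitOrd q O.card N ∧ ∀ y ∈ O, y ^ N = 1 := by
  classical
  have hinj' : Injective (phiInv q : K → K) := fun a b h => hinj (inv_injective h)
  have hper : x ∈ periodicPts (phiInv q : K → K) := hinj'.mem_periodicPts x
  set m := minimalPeriod (phiInv q : K → K) x with hm
  have hm0 : 0 < m := minimalPeriod_pos_of_mem_periodicPts hper
  have hfix : (phiInv q)^[m] x = x := isPeriodicPt_minimalPeriod _ x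
  set O := (Finset.range m).image fun i => (phiInv q)^[i] x with hO
  have hmem : ∀ i, (phiInv q)^[i] x ∈ O := fun i => by
    rw [← iterate_mod_minimalPeriod_eq]
    exact Finset.mem_image_of_mem _ (Finset.mem_range.2 (Nat.mod_lt _ hm0))
  have hcard : O.card = m := by
    rw [hO, Finset.card_image_of_injOn, Finset.card_range]
    intro a ha b hb h
    exact iterate_injOn_Iio_minimalPeriod (Finset.mem_range.1 ha) (Finset.mem_range.1 hb) h
  obtain ⟨N, hN, hodd, heven⟩ := exists_orbitOrd hq (show 1 ≤ m from hm0)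
  have hxN : x ^ N = 1 := by
    have h := hfix
    rw [phiInv_iterate] at h
    by_cases he : Even m
    · rw [if_pos he] at h
      rw [heven he]
      refine (mul_eq_right₀ hx).1 ?_
      rw [← pow_succ, Nat.sub_add_cancel (Nat.one_le_pow _ _ (by omega)), h]
    · rw [if_neg he] at h
      rw [hodd (Nat.not_even_iff_odd.1 he), pow_succ]
      conv_lhs => arg 2; rw [← h]
      exact mul_inv_cancel₀ (pow_ne_zero _ hx)
  refine ⟨O, hmem 0, ?_, ?_, ?_, N, hcard ▸ hN, ?_⟩
  · intro y hy
    obtain ⟨i, -, rfl⟩ := Finset.mem_image.1 hy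
    rw [← iterate_succ_apply' (phiInv q) i x]
    exact hmem _
  · intro y hy
    obtain ⟨i, -, rfl⟩ := Finset.mem_image.1 hy
    exact ⟨i, rfl⟩
  · intro y hy
    obtain ⟨i, -, hi⟩ := Finset.mem_image.1 hy
    rcases i with _ | i
    · have : y = (phiInv q)^[m - 1] x := hinj' (by
        rw [← iterate_succ_apply' (phiInv q), show (m - 1).succ = m by omega, hfix]; exact hi.symm)
      exact this ▸ hmem _
    · rw [iterate_succ_apply'] at hi
      exact hinj' hi ▸ hmem i
  · intro y hy
    obtain ⟨i, -, rfl⟩ := Finset.mem_image.1 hy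
    induction i with
    | zero => exact hxN
    | succ i ih =>
      rw [iterate_succ_apply', phiInv, inv_pow, ← pow_mul, mul_comm q N, pow_mul, ih (hmem i), one_pow, inv_one]

/-- Bounds for a stable set of roots. -/
theorem stable_bound (hq : 2 ≤ q) (hinj : Injective (fun x : K => x ^ q)) (R : Finset K) (hne : R.Nonempty)
    (h0 : ∀ x ∈ R, x ≠ 0) (hst : ∀ x ∈ R, phiInv q x ∈ R) :
    ∃ N : ℕ, q + 1 ∣ N ∧ 0 < N ∧ (∀ x ∈ R, x ^ N = 1) ∧
      (MultiBound q R.card N ∨ (OrbitOrd q R.card N ∧ ∃ x ∈ R, ∀ y ∈ R, ∃ i, (phiInv q)^[i] x = y)) := by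
  classical
  induction R using Finset.strongInduction with
  | _ R ih =>
    obtain ⟨x, hx⟩ := hne
    obtain ⟨O, hxO, hO1, hO2, hO3, N, hN, hON⟩ := orbit_facts q hq hinj x (h0 x hx)
    have hOR : O ⊆ R := fun y hy => by
      obtain ⟨i, rfl⟩ := hO2 y hy
      exact Nat.rec hx (fun j hj => by rw [iterate_succ_apply']; exact hst _ hj) i
    rcases (R \ O).eq_empty_or_nonempty with he | hne'
    · obtain rfl : O = R := Finset.Subset.antisymm hOR (Finset.sdiff_eq_empty_iff_subset.1 he)
      exact ⟨N, hN.dvd, hN.pos, hON, Or.inr ⟨hN, x, hxO, hO2⟩⟩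
    have hss : R \ O ⊂ R := Finset.sdiff_ssubset hOR ⟨x, hxO⟩
    obtain ⟨A, hA1, hA0, hA, hAB⟩ := ih _ hss hne' (fun y hy => h0 y (Finset.mem_sdiff.1 hy).1)
      (fun y hy => by
        obtain ⟨hyR, hyO⟩ := Finset.mem_sdiff.1 hy
        exact Finset.mem_sdiff.2 ⟨hst y hyR, fun h => hyO (hO3 y h)⟩)
    have hcard : R.card = (R \ O).card + O.card := (Finset.card_sdiff_add_card_eq_card hOR).symm
    have hOc : 1 ≤ O.card := Finset.card_pos.2 ⟨x, hxO⟩
    refine ⟨Nat.lcm A N, hA1.trans (Nat.dvd_lcm_left _ _), Nat.lcm_pos hA0 hN.pos, fun y hy => ?_, Or.inl ?_⟩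
    · by_cases hyO : y ∈ O
      · obtain ⟨c, hc⟩ := Nat.dvd_lcm_right A N
        rw [hc, pow_mul, hON y hyO, one_pow]
      · obtain ⟨c, hc⟩ := Nat.dvd_lcm_left A N
        rw [hc, pow_mul, hA y (Finset.mem_sdiff.2 ⟨hy, hyO⟩), one_pow]
    · rw [hcard]
      rcases hAB with h | ⟨h, -⟩
      · exact multi_step hq hOc h hA0 hA1 hN
      · exact pair_bound hq (Finset.card_pos.2 hne') hOc h hN

/-- A common scalar power of all roots. -/
theorem exists_common_pow (hq : 2 ≤ q) (hinj : Injective (fun x : K => x ^ q)) (R : Finset K) (hne : R.Nonempty)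
    (h0 : ∀ x ∈ R, x ≠ 0) (hst : ∀ x ∈ R, phiInv q x ∈ R) :
    ∃ L, 0 < L ∧ Bound q R.card L ∧ ∃ c : K, c ^ (q + 1) = 1 ∧ ∀ x ∈ R, x ^ L = c := by
  obtain ⟨N, ⟨L, hL⟩, hN0, hN, h | ⟨h, x, hx, hgen⟩⟩ := stable_bound q hq hinj R hne h0 hst
  · exact ⟨N, hN0, h.bound, 1, one_pow _, hN⟩
  · refine ⟨L, Nat.pos_of_ne_zero fun e => by rw [e, mul_zero] at hL; omega,
      single_bound hq (Finset.card_pos.2 ⟨x, hx⟩) h hL.symm, x ^ L, ?_, fun y hy => ?_⟩
    · rw [← pow_mul, mul_comm, ← hL, hN x hx]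
    · obtain ⟨i, rfl⟩ := hgen y hy
      clear hy
      induction i with
      | zero => rfl
      | succ i ih =>
        rw [iterate_succ_apply', phiInv, inv_pow, ← pow_mul, mul_comm q L, pow_mul, ih]
        refine inv_eq_of_mul_eq_one_right ?_
        rw [← pow_succ, ← pow_mul, mul_comm L, ← hL, hN x hx]

end Orbits

variable {F : Type*} [Field F] [Fintype F] {d : ℕ}

/-- An element of a finite extension fixed by `x ↦ x^|F|` lies in `F`. -/
theorem mem_range_of_pow_card {K : Type*} [Field K] [Algebra F K] {c : K}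
    (hc : c ^ Fintype.card F = c) : ∃ a : F, algebraMap F K a = c := by
  have h1 : 1 < Fintype.card F := Fintype.one_lt_card
  have hne : (X ^ Fintype.card F - X : F[X]) ≠ 0 := FiniteField.X_pow_card_sub_X_ne_zero F h1
  have hcard : (X ^ Fintype.card F - X : F[X]).roots.card = (X ^ Fintype.card F - X : F[X]).natDegree := by
    rw [FiniteField.roots_X_pow_card_sub_X, FiniteField.X_pow_card_sub_X_natDegree_eq F h1]
    rfl
  have hmap := Polynomial.roots_map_of_injective_of_card_eq_natDegree (algebraMap F K).injective hcard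
  have hcr : c ∈ ((X ^ Fintype.card F - X : F[X]).map (algebraMap F K)).roots := by
    rw [mem_roots (Polynomial.map_ne_zero hne)]
    simp [hc]
  rw [← hmap, Multiset.mem_map] at hcr
  obtain ⟨a, -, ha⟩ := hcr
  exact ⟨a, ha⟩

/-- A power of a unitary matrix is scalar, with the exponent of bounded size. -/
theorem exists_pow_scalar {p f q : ℕ} (hp : p.Prime) (hf : 1 ≤ f) (hq : q = p ^ f) (hF : Fintype.card F = q ^ 2)
    (hd : 3 ≤ d) (g : GL (Fin d) F) (hg : g ∈ Cfsg.GU d F q) :
    ∃ S E L : ℕ, S + E ≤ d + 1 ∧ 1 ≤ S ∧ 1 ≤ E ∧ Bound q S L ∧ 0 < L ∧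
      ∃ c : F, (g : Matrix (Fin d) (Fin d) F) ^ (p ^ Nat.clog p E * L) = Matrix.scalar (Fin d) c := by
  classical
  haveI : Fact p.Prime := ⟨hp⟩
  haveI : CharP F p := by
    obtain ⟨n, hr, hn⟩ := FiniteField.card F (ringChar F)
    have h : ringChar F ∣ p ^ (f * 2) := by
      rw [pow_mul, ← hq, ← hF, hn]; exact dvd_pow_self _ n.ne_zero
    have := (Nat.prime_dvd_prime_iff_eq hr hp).1 (hr.dvd_of_dvd_pow h)
    exact this ▸ ringChar.charP F
  haveI : ExpChar F p := ExpChar.prime hp
  haveI : Nonempty (Fin d) := ⟨⟨0, by omega⟩⟩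
  have hq2 : 2 ≤ q := hq ▸ hp.two_le.trans (Nat.le_self_pow (by omega) p)
  let σ : F →+* F := iterateFrobenius F p f
  have hσ : ∀ x, σ x = x ^ q := fun x => by rw [hq]; exact iterateFrobenius_def p f x
  have hσσ : ∀ x, σ (σ x) = x := fun x => by rw [hσ, hσ, ← pow_mul, ← pow_two, ← hF, FiniteField.pow_card]
  set M := (g : Matrix (Fin d) (Fin d) F) with hM
  have hU : M.transpose * M.map σ = 1 := by
    ext i j
    have h := hg (Pi.single i 1) (Pi.single j 1)
    simp only [Cfsg.hermForm, Units.coeHom_apply, Matrix.mulVec_single_one, Matrix.col_apply, ← hM] at h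
    rw [Matrix.mul_apply, Matrix.one_apply]
    simp only [Matrix.transpose_apply, Matrix.map_apply, hσ]
    rw [h]
    by_cases hij : i = j
    · subst hij
      rw [Finset.sum_eq_single i (fun k _ hk => by simp [hk]) (by simp)]
      simp
    · rw [if_neg hij, Finset.sum_eq_zero]
      intro k _
      by_cases hki : k = i
      · subst hki; simp [hij, zero_pow (show q ≠ 0 by omega)]
      · simp [hki]
  set P := minpoly F M with hP
  have hint : IsIntegral F M := Matrix.isIntegral M
  have hmon : P.Monic := minpoly.monic hint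
  have hdeg : P.natDegree ≤ d := by
    refine (natDegree_le_of_dvd (Matrix.minpoly_dvd_charpoly M) (Matrix.charpoly_monic M).ne_zero).trans_eq ?_
    rw [Matrix.charpoly_natDegree_eq_dim, Fintype.card_fin]
  -- `M⁻¹` is a power of `M`
  set n₀ := orderOf g with hn₀
  have hn₀p : 0 < n₀ := orderOf_pos _
  have hMn : M ^ n₀ = 1 := by rw [hM, ← Units.val_pow_eq_pow_val, pow_orderOf_eq_one, Units.val_one]
  have hMk : M * M ^ (n₀ - 1) = 1 := by rw [← pow_succ', show n₀ - 1 + 1 = n₀ by omega, hMn]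
  have hconj : M.transpose.map σ = M ^ (n₀ - 1) := by
    have h2 : M.transpose.map σ * M = 1 := by
      have h := congrArg (fun A : Matrix (Fin d) (Fin d) F => A.map σ) hU
      simp only [Matrix.map_mul, Matrix.map_map] at h
      rw [Matrix.map_one σ (map_zero σ) (map_one σ)] at h
      rwa [show (σ ∘ σ : F → F) = id from funext hσσ, Matrix.map_id] at h
    exact left_inv_eq_right_inv h2 hMk
  have hkey : aeval (M ^ (n₀ - 1)) (P.map σ) = 0 := by
    rw [← hconj]
    have htr : aeval M.transpose P = 0 := by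
      have h := congrArg Matrix.transpose (minpoly.aeval F M)
      rw [← hP, Matrix.transpose_zero, aeval_eq_sum_range, Matrix.transpose_sum] at h
      rw [aeval_eq_sum_range]
      simpa [Matrix.transpose_smul, Matrix.transpose_pow] using h
    have h := congrArg σ.mapMatrix htr
    rw [map_zero, aeval_eq_sum_range, map_sum] at h
    rw [aeval_eq_sum_range, natDegree_map]
    refine Eq.trans (Finset.sum_congr rfl fun i _ => ?_) h
    rw [coeff_map, Algebra.smul_def, Algebra.smul_def, map_mul, map_pow, RingHom.mapMatrix_apply]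
    congr 1
    simp [Matrix.algebraMap_eq_diagonal, Matrix.diagonal_map, Pi.algebraMap_def]
  let K := P.SplittingField
  haveI : Module.Finite F K := Polynomial.IsSplittingField.finiteDimensional K P
  haveI : Finite K := Module.finite_of_finite F
  haveI : CharP K p := charP_of_injective_algebraMap (algebraMap F K).injective p
  haveI : ExpChar K p := ExpChar.prime hp
  have hinj : Injective (fun x : K => x ^ q) := by
    have : (fun x : K => x ^ q) = iterateFrobenius K p f := funext fun x => by rw [hq, iterateFrobenius_def]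
    rw [this]
    exact RingHom.injective _
  set PK := P.map (algebraMap F K) with hPK
  have hPK0 : PK ≠ 0 := Polynomial.map_ne_zero hmon.ne_zero
  set R := PK.roots.toFinset with hR
  have hroot : ∀ y, y ∈ R ↔ eval₂ (algebraMap F K) y P = 0 := fun y => by
    rw [hR, Multiset.mem_toFinset, mem_roots hPK0, IsRoot.def, hPK, eval_map]
  have hdvd : ∀ Q : F[X], aeval M Q = 0 → ∀ y ∈ R, eval₂ (algebraMap F K) y Q = 0 := fun Q hQ y hy => by
    obtain ⟨c, hc⟩ := minpoly.dvd F M hQ
    rw [hc, eval₂_mul, ← hP, (hroot y).1 hy, zero_mul]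
  have hyn : ∀ y ∈ R, y ^ n₀ = 1 := fun y hy => by
    have := hdvd (X ^ n₀ - 1) (by simp [hMn]) y hy
    simpa [sub_eq_zero] using this
  have h0 : ∀ y ∈ R, y ≠ 0 := fun y hy e => by
    have := hyn y hy
    rw [e, zero_pow hn₀p.ne'] at this
    exact zero_ne_one this
  have hback : ∀ y ∈ R, ∃ z ∈ R, phiInv q z = y := fun y hy => by
    obtain ⟨z, hz⟩ := Finite.injective_iff_surjective.1 hinj (y ^ (n₀ - 1))
    have hyi : y ^ (n₀ - 1) = y⁻¹ := by
      refine eq_inv_of_mul_eq_one_left ?_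
      rw [← pow_succ, show n₀ - 1 + 1 = n₀ by omega, hyn y hy]
    refine ⟨z, (hroot z).2 ?_, ?_⟩
    · have h := hdvd ((P.map σ).comp (X ^ (n₀ - 1))) (by rw [aeval_comp, map_pow, aeval_X]; exact hkey) y hy
      rw [eval₂_comp, eval₂_X_pow, eval₂_map, ← hz] at h
      have e : eval₂ ((algebraMap F K).comp σ) (z ^ q) P = (eval₂ (algebraMap F K) z P) ^ q := by
        rw [show (eval₂ (algebraMap F K) z P) ^ q = iterateFrobenius K p f (eval₂ (algebraMap F K) z P) by
          rw [iterateFrobenius_def, hq], hom_eval₂]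
        congr 1
        · refine RingHom.ext fun a => ?_
          simp only [RingHom.comp_apply, iterateFrobenius_def, hσ, map_pow, hq]
        · rw [iterateFrobenius_def, hq]
      rw [e] at h
      exact pow_eq_zero_iff (by omega : q ≠ 0) |>.1 h
    · show (z ^ q)⁻¹ = y
      rw [show z ^ q = y ^ (n₀ - 1) from hz, hyi, inv_inv]
  have hst : ∀ y ∈ R, phiInv q y ∈ R := by
    choose! ψ hψ hψ' using hback
    intro y hy
    obtain ⟨w, hw, rfl⟩ := Finset.surj_on_of_inj_on_of_card_le (fun a _ => ψ a) (fun a ha => hψ a ha)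
      (fun a b ha hb h => by rw [← hψ' a ha, ← hψ' b hb, h]) le_rfl y hy
    rwa [hψ' w hw]
  have hdegK : PK.natDegree = P.natDegree := natDegree_map _
  have hsplit : PK.Splits := SplittingField.splits P
  have hcardroots : PK.roots.card = P.natDegree := by rw [← hdegK, ← hsplit.natDegree_eq_card_roots]
  have hne : R.Nonempty := by
    rw [hR, Multiset.toFinset_nonempty, ← Multiset.card_pos, hcardroots]
    exact minpoly.natDegree_pos hint
  obtain ⟨a₀, ha₀, hmax⟩ := R.exists_max_image (fun a => PK.roots.count a) hne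
  set E := PK.roots.count a₀ with hE
  have hE1 : 1 ≤ E := Multiset.one_le_count_iff_mem.2 (Multiset.mem_toFinset.1 ha₀)
  have hSE : R.card + E ≤ P.natDegree + 1 := by
    rw [← hcardroots, ← Multiset.toFinset_sum_count_eq, ← hR, ← Finset.add_sum_erase _ _ ha₀, ← hE]
    have : (R.erase a₀).card ≤ ∑ a ∈ R.erase a₀, PK.roots.count a := by
      refine (Finset.card_eq_sum_ones _).trans_le (Finset.sum_le_sum fun a ha => ?_)
      exact Multiset.one_le_count_iff_mem.2 (Multiset.mem_toFinset.1 (Finset.mem_of_mem_erase ha))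
    rw [Finset.card_erase_of_mem ha₀] at this
    omega
  obtain ⟨L, hL0, hB, c, hc, hcR⟩ := exists_common_pow q hq2 hinj R hne h0 hst
  refine ⟨R.card, E, L, by omega, Finset.card_pos.2 hne, hE1, hB, hL0, ?_⟩
  have hcQ : c ^ Fintype.card F = c := by
    obtain ⟨j, rfl⟩ : ∃ j, q = j + 1 := ⟨q - 1, by omega⟩
    rw [hF, show (j + 1) ^ 2 = (j + 1 + 1) * j + 1 by ring, pow_succ, pow_mul, hc, one_pow, one_mul]
  obtain ⟨c', rfl⟩ := mem_range_of_pow_card (F := F) hcQ
  set a := Nat.clog p E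
  refine ⟨c' ^ p ^ a, ?_⟩
  have hEa : E ≤ p ^ a := Nat.le_pow_clog hp.one_lt E
  have hdiv : P ∣ X ^ (p ^ a * L) - C (c' ^ p ^ a) := by
    rw [← Polynomial.map_dvd_map (algebraMap F K) (algebraMap F K).injective hmon, ← hPK]
    have hrhs : (X ^ (p ^ a * L) - C (c' ^ p ^ a)).map (algebraMap F K) =
        (X ^ L - C (algebraMap F K c')) ^ p ^ a := by
      rw [sub_pow_char_pow, ← pow_mul, mul_comm L, ← C_pow]
      simp
    have hprod : (∏ x ∈ R, (X - C x)) ∣ X ^ L - C (algebraMap F K c') := by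
      refine Finset.prod_dvd_of_coprime (fun x _ y _ hxy => ?_) fun x hx => ?_
      · exact pairwise_coprime_X_sub_C injective_id hxy
      · rw [dvd_iff_isRoot]
        simp [hcR x hx]
    have hPd : PK ∣ (∏ x ∈ R, (X - C x)) ^ E := by
      conv_lhs => rw [hsplit.eq_prod_roots]
      rw [(hmon.map (algebraMap F K)).leadingCoeff, C_1, one_mul, Finset.prod_multiset_map_count, ← hR,
        ← Finset.prod_pow]
      exact Finset.prod_dvd_prod_of_dvd _ _ fun x hx => pow_dvd_pow _ (hmax x hx)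
    rw [hrhs]
    exact hPd.trans ((pow_dvd_pow_of_dvd hprod E).trans (pow_dvd_pow _ hEa))
  have h := minpoly.dvd_iff.1 hdiv
  rw [map_sub, map_pow, aeval_X, aeval_C, sub_eq_zero] at h
  exact h

/-- The upper bound on element orders of `PGU_d(q)`. -/
theorem orderOf_cases {p f q : ℕ} (hp : p.Prime) (hf : 1 ≤ f) (hq : q = p ^ f) (hF : Fintype.card F = q ^ 2)
    (hd : 3 ≤ d) (h32 : ¬ (d = 3 ∧ q = 2))
    (y : ↥(Cfsg.GU d F q) ⧸ Subgroup.center ↥(Cfsg.GU d F q)) :
    (Odd d → 2 ≤ f → orderOf y ≤ q ^ (d - 1) - 1) ∧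
    (Odd d → f = 1 → orderOf y ≤ (p ^ (d - 2) + 1) * p) ∧
    (Even d → 2 < q → orderOf y ≤ q ^ (d - 1) + 1) ∧
    (Even d → q = 2 → orderOf y ≤ 4 * (2 ^ (d - 3) + 1)) := by
  obtain ⟨g, rfl⟩ := QuotientGroup.mk_surjective y
  obtain ⟨S, E, L, hSE, hS, hE, hB, hL0, c, hc⟩ := exists_pow_scalar hp hf hq hF hd g.1 g.2
  set n := p ^ Nat.clog p E * L with hn
  have hcen : g ^ n ∈ Subgroup.center ↥(Cfsg.GU d F q) := Subgroup.mem_center_iff.2 fun h => by
    refine Subtype.ext (Units.ext ?_)
    simp only [Subgroup.coe_mul, SubgroupClass.coe_pow, Units.val_mul, Units.val_pow_eq_pow_val, hc]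
    exact ((Matrix.scalar_commute c (fun r => Commute.all c r) _).eq).symm
  have hord : orderOf (QuotientGroup.mk g : ↥(Cfsg.GU d F q) ⧸ Subgroup.center ↥(Cfsg.GU d F q)) ≤ n := by
    refine orderOf_le_of_pow_eq_one (Nat.mul_pos (Nat.pow_pos hp.pos) hL0) ?_
    rw [← QuotientGroup.mk_pow, QuotientGroup.eq_one_iff]
    exact hcen
  obtain ⟨b1, b2, b3, b4⟩ := bound_cases hp hf hq hd h32 hSE hS hE hB
  exact ⟨fun a b => hord.trans (b1 a b), fun a b => hord.trans (b2 a b), fun a b => hord.trans (b3 a b),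
    fun a b => hord.trans (b4 a b)⟩

end CfsgLib.KnownA.PGUMaxOrd
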